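-- Certificate data for MWE7; generated by a coset enumerator, checked by the kernel.
import Cfsg.Agent.Lib.Compute.TCFast
import Cfsg.Agent.Lib.Fischer.M23.Mult.Words
set_option autoImplicit false
set_option maxRecDepth 1000000

open Cfsg.Agent.Lib.Compute.ToddCoxeterCore Cfsg.Agent.Lib.Compute.ToddCoxeterPresented Cfsg.Agent.Lib.Compute.TCFast

namespace Cfsg.Agent.Lib.Compute.TC.MWE7

/-- the packed entries -/
noncomputable def tE : TT := .leaf (nat_lit 0xffffff00000000000000d020001870000370005000036300018200003600000000b9200018800003700000000a5200018600003700000000812000185000037000000005920001840000370000000029200018300003700000000000ffffff00000000000000c4200017f000036000000000010001810000370004000035300017b000035000000009920001800000360000000079200017e0000360000000051200017d0000360000000021200017c00003600000000000ffffff00000000000000ac200017800003500000000a420001770000350000000000100017a00003600030000343000174000034000000006d200017900003500000000492000176000035000000001920001750000350000000000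0ffffff00000000000000882000172000034000000008020001700000340000000078200016f000034000000000010001730000350002000033300016d000033000000003d20001710000340000000011200016e00003400000000000ffffff0000000006000031300016500003100000000d1200016b00003300000000c5200016a00003300000000ad20001690000330000000000100016c000034000000006120001670000320000000031200016600003300000000000ffffff000000000600002f300015d00002f00000000d1200016200003200000000c5200016100003200000000ad200016000003200000000892000163000032000100003330001680000330000000031200015e00003000000000000ffffff00000000000000001000164000033000000005820001590000310000000050200015800003100000000482000157000031000000003c200015b000031000100002f300015600002f0000000005200015a00003100000000000ffffff000000000600002e300014f00002e00000000d1200015300003000000000c5200015200003000000000ad200015100003000000000892000154000030000000006120001500000300000000032300015f00003200000000000ffffff0000000000000000100015c0000320000000080200014c00002f0000000078200014b00002f000000006c20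0014d00002f000200002d300014800002d000000000010001550000310000000011200014900002e00000000000ffffff0000000000000000100014e0000300000000080200014400002e0000000078200014300002e000000006c200014600002e000200002c300014200002c000000003d200014500002e000000002f300014a00002f00000000000ffffff00000000000000ac200013f00002d00000000a4200013e00002d0000000098200014000002d000300002b300013a00002b0000000000100014700002f0000000049200013d00002d0000000019200013b00002c00000000000ffffff00000000000000ac200013700002c00000000a4200013600002c0000000098200013800002c000300002830001330000280000000000100014100002e00000000492000134000029000000002d300013c00002d00000000000ffffff0000000000000030200013000002b0000000028200012f00002b0000000020200012d00002a0000000000100013900002d0000000010200012c00002b0000000004200013100002b0000000028300012b00002800000000000ffffff0000000000000030200012800002a00000000282000126000027000400002b300012e00002b0000000018200012500002a0000000010200012400002a0000000004200012900002a0000000026300012300002600000000000fff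fff00000000000000ac200011f00002900000000a4200011e000029000000009820001210000290003000025300011c000025000000006d2000120000029000100002c300013500002c0000000019200011d00002900000000000ffffff0000000000000060200011900002800000000582000118000028000000005020001160000260000000000100013200002c000000003c200011a000028000100002530001150000250000000000100012a00002b00000000000ffffff00000000000000302000112000027000500002a300012700002a00000000202000111000027000000001820001100000270000000010200010f000027000000000420001130000270000000024300010e00002400000000000ffffff0000000000000060200010b000026000000005820001090000240004000028300011700002800000000482000108000026000000003c200010c000026000100002330001070000230000000000100012200002a00000000000ffffff0000000000000088200010500002500000000802000104000025000000007820001020000230000000000100011b00002900020000223000100000022000000000010001140000280000000011200010100002500000000000ffffff000000000000006020000fd0000240005000026300010a000026000000005020000fc000024000000004820000f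b000024000000003c20000fe000024000100002130000fa0000210000000000100010d00002700000000000ffffff000000000000008820000f8000023000000008020000f500002100040000253000103000025000000006c20000f7000023000200002030000f300002000000000001000106000026000000001120000f400002300000000000ffffff000000000600001f30000eb00001f00000000d120000f100002200000000c520000ef00002000000000ad20000ee000022000000000010000ff000025000000006120000ed000022000000003120000ec00002200000000000ffffff000000000000008820000e9000021000500002330000f6000023000000007820000e7000021000000006c20000e8000021000200001d30000e500001d000000000010000f9000024000000001120000e600002100000000000ffffff000000000600001c30000dd00001c00000000d120000e200001d000400002230000f000002200000000ad20000e000001e000000000010000f2000023000000006120000df000020000000003120000de00002000000000000ffffff000000000000000010000ea00002200000000b820000db00001f000400001c30000d600001c000000009920000da00001f000000007920000d900001f000000005120000d800001f000000002120000d700001f00000000000ffffff0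00000000600001a30000ce00001a00000000d120000d200001b00000000c520000d100001e000300002030000e1000020000000008920000d400001e000000006120000d000001e000000003120000cf00001e00000000000ffffff000000000600001930000c7000019000500002030000e300002000000000c520000cc00001d00000000ad20000ca00001b000000000010000e4000021000000006120000c900001d000000003120000c800001d00000000000ffffff000000000000000010000dc000020000500001930000c0000019000000000010000d500001f00000000a520000c400001a000000008120000c300001c000000005920000c200001c000000002920000c100001c00000000000ffffff000000000600001630000b9000016000500001e30000d300001e00000000c520000bc000017000300001d30000cb00001d000000008920000be00001b000000006120000bb00001b000000003120000ba00001b00000000000ffffff000000000000000010000cd00001e000500001630000b200001600000000b920000b700001a000300001c30000c500001c000000008120000b5000018000000005920000b400001a000000002920000b300001a00000000000ffffff000000000000000010000c600001d000000000010000bf00001c000000009820000b0000019000300001630000ac000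016000000006d20000af000019000000004920000ae000019000000001920000ad00001900000000000ffffff00000000000000d020000a9000018000500001430000a400001400000000b920000aa00001800000000a520000a8000018000200001a30000b600001a000000005920000a6000015000000002920000a500001800000000000ffffff0000000006000013300009d00001300000000d120000a1000017000400001b30000bd00001b00000000ad20000a0000017000000008920000a20000170000000061200009f0000170000000031200009e00001700000000000ffffff000000000000000010000b800001b000000000010000b100001a00040000133000097000013000000000010000ab0000190000000079200009a000014000000005120000990000160000000021200009800001600000000000ffffff00000000000000d020000940000150005000011300008f00001100000000b9200009500001500000000a5200009300001500000000812000092000015000100001830000a70000180000000029200009000001200000000000ffffff00000000000000c4200008c000014000000000010000a3000018000400001030000880000100000000099200008d0000140002000016300009b0000160000000051200008a0000110000000021200008900001400000000000ffffff00000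00000000000100009c0000170000000080200008400001300000000001000096000016000000006c200008600001300020000103000082000010000000003d20000850000130000000011200008300001300000000000ffffff00000000000000d0200007f000012000500000f300007b00000f00000000b9200008000001200000000a5200007e0000120000000081200007d0000120000000059200007c0000120000000015300009100001500000000000ffffff00000000000000c420000780000110000000000100008e000015000400000e300007400000e00000000992000079000011000000007920000770000110001000014300008b0000140000000021200007500000f00000000000ffffff00000000000000ac200007200001000000000a4200007100001000000000001000087000014000300000d300006d00000d000000000010000810000130000000049200006f00000e0000000019200006e00001000000000000ffffff00000000000000c4200006a00000f0000000000100007a000012000400000c300006700000c0000000099200006b00000f0000000079200006900000f0000000051200006800000f0000000011300007600001100000000000ffffff00000000000000ac200006400000e00000000a4200006300000e00000000001000073000011000300000b300006000000b0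00000006d200006500000e000100001030000700000100000000019200006100000c00000000000ffffff0000000000000060200005c00000d0000000058200005b00000d0000000050200005a00000d0000000000100006c000010000000003c200005e00000d000100000b300005900000b0000000005200005d00000d00000000000ffffff00000000000000ac200005600000c00000000a4200005500000c0000000000100006600000f000300000a300005300000a000000006d200005700000c0000000049200005400000c000000000e300006200000e00000000000ffffff0000000000000088200005100000b0000000080200005000000b0000000078200004f00000b0000000000100005f00000e0002000009300004c0000090000000000100005800000d0000000011200004d00000a00000000000ffffff0000000000000088200004a00000a0000000080200004800000a0000000078200004700000a0000000000100005200000c00020000083000046000008000000003d200004900000a000000000b300004e00000b00000000000ffffff0000000006000007300003e00000700000000d1200004400000900000000c5200004300000900000000ad20000420000090000000000100004b00000b000000006120000410000090000000031200003f00000800000000000ffffff000000000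6000005300003700000500000000d1200003c00000800000000c5200003b00000800000000ad200003a0000080000000000100004500000a000000006120000380000060000000009300004000000900000000000ffffff0000000000000000100003d00000900000000282000034000007000000002020000330000070000000018200003200000700000000102000031000007000000000420000350000070000000005300003000000500000000000ffffff0000000006000004300002900000400000000d1200002d00000600000000c5200002c00000600000000ad200002b0000060000000089200002e000006000100000830000390000080000000031200002a00000600000000000ffffff00000000000000001000036000008000000005820000260000050000000050200002500000500000000482000024000005000000003c2000027000005000100000430000230000040000000000100002f00000700000000000ffffff00000000000000001000028000006000000008020000200000040000000078200001f000004000000006c20000210000040002000003300001d000003000000000010000220000050000000011200001e00000400000000000ffffff00000000000000ac200001a00000300000000a420000190000030000000098200001b0000030003000002300001600000200000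00000100001c000004000000004920000180000030000000019200001700000300000000000ffffff00000000000000c4200001300000200000000b820000140000020004000001300000f0000010000000000100001500000300000000792000012000002000000005120000110000020000000021200001000000200000000000ffffff00000000000000d0200000d000001000500000030000080000000000000000100000e00000200000000a5200000c0000010000000081200000b0000010000000059200000a0000010000000029200000900000100000000000ffffff00000000000000055000006000000000000000010000070000010000000004500000500000000000000035000004000000000000000250000030000000000000001500000200000000000000005000001000000)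
/-- the definitions -/
noncomputable def tP : TT := .leaf (nat_lit 0x1b5000001ac000001a30000019a0000018e0000017e00000179000001760000016a000001620000015b0000014300000140000001300000012b000001290000012000000119000001120000010900000102000000fe000000ea000000e6000000e4000000d6000000ce000000cd000000b6000000b5000000b3000000a50000009e0000009c0000008d00000084000000820000007d000000740000006b000000640000005b00000059000000530000004a000000420000003e0000002e0000002800000026000000210000001a000000130000000c0000000500000000)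
/-- the parents -/
noncomputable def tQ : TT := .leaf (nat_lit 0x1b5000001ac000001a30000019a0000018e0000017e00000179000001760000016a000001620000015b0000014300000140000001300000012b000001290000012000000119000001120000010900000102000000fe000000ea000000e6000000e4000000d6000000ce000000cd000000b6000000b5000000b3000000a50000009e0000009c0000008d00000084000000820000007d000000740000006b000000640000005b00000059000000530000004a000000420000003e0000002e0000002800000026000000210000001a000000130000000c0000000500000000)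
/-- the orbit tables -/
noncomputable def tO : TT := .leaf (nat_lit 0x0)
/-- the rule table -/
noncomputable def rT : RT := .node (nat_lit 110) (.node (nat_lit 55) (.node (nat_lit 27) (.node (nat_lit 13) (.node (nat_lit 6) (.node (nat_lit 3) (.node (nat_lit 1) (.leaf (nat_lit 0) (nat_lit 0) [nat_lit 0]) (.node (nat_lit 2) (.leaf (nat_lit 0) (nat_lit 0) [nat_lit 0]) (.leaf (nat_lit 0) (nat_lit 0) [nat_lit 0]))) (.node (nat_lit 4) (.leaf (nat_lit 0) (nat_lit 0) [nat_lit 0]) (.node (nat_lit 5) (.leaf (nat_lit 4) (nat_lit 1) [nat_lit 0, nat_lit 1, nat_lit 0, nat_lit 1, nat_lit 0]) (.leaf (nat_lit 5) (nat_lit 0) [nat_lit 1, nat_lit 0, nat_lit 1, nat_lit 0, nat_lit 1])))) (.node (nat_lit 9) (.node (nat_lit 7) (.leaf (nat_lit 4) (nat_lit 1) [nat_lit 0, nat_lit 1, nat_lit 0, nat_lit 1, nat_lit 0]) (.node (nat_lit 8) (.leaf (nat_lit 5) (nat_lit 0) [nat_lit 1, nat_lit 0, nat_lit 1, nat_lit 0, nat_lit 1]) (.leaf (nat_lit 4) (nat_lit 1) [nat_lit 0, nat_lit 1, nat_lit 0, nat_lit 1, nat_lit 0]))) (.node (nat_lit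 11) (.node (nat_lit 10) (.leaf (nat_lit 5) (nat_lit 0) [nat_lit 1, nat_lit 0, nat_lit 1, nat_lit 0, nat_lit 1]) (.leaf (nat_lit 5) (nat_lit 0) [nat_lit 1, nat_lit 0, nat_lit 1, nat_lit 0, nat_lit 1])) (.node (nat_lit 12) (.leaf (nat_lit 4) (nat_lit 1) [nat_lit 0, nat_lit 1, nat_lit 0, nat_lit 1, nat_lit 0]) (.leaf (nat_lit 5) (nat_lit 0) [nat_lit 1, nat_lit 0, nat_lit 1, nat_lit 0, nat_lit 1]))))) (.node (nat_lit 20) (.node (nat_lit 16) (.node (nat_lit 14) (.leaf (nat_lit 4) (nat_lit 1) [nat_lit 0, nat_lit 1, nat_lit 0, nat_lit 1, nat_lit 0]) (.node (nat_lit 15) (.leaf (nat_lit 5) (nat_lit 0) [nat_lit 1, nat_lit 0, nat_lit 1, nat_lit 0, nat_lit 1]) (.leaf (nat_lit 4) (nat_lit 1) [nat_lit 0, nat_lit 1, nat_lit 0, nat_lit 1, nat_lit 0]))) (.node (nat_lit 18) (.node (nat_lit 17) (.leaf (nat_lit 16) (nat_lit 2) [nat_lit 0, nat_lit 2, nat_lit 0]) (.leaf (nat_lit 17) (nat_lit 0) [nat_lit 2, nat_lit 0, nat_lit 2])) (.node (nat_lit 19) (.leaf (nat_lit 16) (nat_lit 2) [nat_lit 0, nat_lit 2, nat_lit 0]) (.leaf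 (nat_lit 17) (nat_lit 0) [nat_lit 2, nat_lit 0, nat_lit 2])))) (.node (nat_lit 23) (.node (nat_lit 21) (.leaf (nat_lit 17) (nat_lit 0) [nat_lit 2, nat_lit 0, nat_lit 2]) (.node (nat_lit 22) (.leaf (nat_lit 16) (nat_lit 2) [nat_lit 0, nat_lit 2, nat_lit 0]) (.leaf (nat_lit 17) (nat_lit 0) [nat_lit 2, nat_lit 0, nat_lit 2]))) (.node (nat_lit 25) (.node (nat_lit 24) (.leaf (nat_lit 16) (nat_lit 2) [nat_lit 0, nat_lit 2, nat_lit 0]) (.leaf (nat_lit 24) (nat_lit 3) [nat_lit 0, nat_lit 3, nat_lit 0])) (.node (nat_lit 26) (.leaf (nat_lit 25) (nat_lit 0) [nat_lit 3, nat_lit 0, nat_lit 3]) (.leaf (nat_lit 24) (nat_lit 3) [nat_lit 0, nat_lit 3, nat_lit 0])))))) (.node (nat_lit 41) (.node (nat_lit 34) (.node (nat_lit 30) (.node (nat_lit 28) (.leaf (nat_lit 25) (nat_lit 0) [nat_lit 3, nat_lit 0, nat_lit 3]) (.node (nat_lit 29) (.leaf (nat_lit 25) (nat_lit 0) [nat_lit 3, nat_lit 0, nat_lit 3]) (.leaf (nat_lit 24) (nat_lit 3) [nat_lit 0, nat_lit 3, nat_lit 0]))) (.node (nat_lit 32) (.node (nat_lit 31) (.leaf (nat_lit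 25) (nat_lit 0) [nat_lit 3, nat_lit 0, nat_lit 3]) (.leaf (nat_lit 24) (nat_lit 3) [nat_lit 0, nat_lit 3, nat_lit 0])) (.node (nat_lit 33) (.leaf (nat_lit 32) (nat_lit 4) [nat_lit 0, nat_lit 4, nat_lit 0]) (.leaf (nat_lit 33) (nat_lit 0) [nat_lit 4, nat_lit 0, nat_lit 4])))) (.node (nat_lit 37) (.node (nat_lit 35) (.leaf (nat_lit 32) (nat_lit 4) [nat_lit 0, nat_lit 4, nat_lit 0]) (.node (nat_lit 36) (.leaf (nat_lit 33) (nat_lit 0) [nat_lit 4, nat_lit 0, nat_lit 4]) (.leaf (nat_lit 33) (nat_lit 0) [nat_lit 4, nat_lit 0, nat_lit 4]))) (.node (nat_lit 39) (.node (nat_lit 38) (.leaf (nat_lit 32) (nat_lit 4) [nat_lit 0, nat_lit 4, nat_lit 0]) (.leaf (nat_lit 33) (nat_lit 0) [nat_lit 4, nat_lit 0, nat_lit 4])) (.node (nat_lit 40) (.leaf (nat_lit 32) (nat_lit 4) [nat_lit 0, nat_lit 4, nat_lit 0]) (.leaf (nat_lit 40) (nat_lit 5) [nat_lit 0, nat_lit 5, nat_lit 0]))))) (.node (nat_lit 48) (.node (nat_lit 44) (.node (nat_lit 42) (.leaf (nat_lit 41) (nat_lit 0) [nat_lit 5, nat_lit 0, nat_lit 5]) (.node (nat_lit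 43) (.leaf (nat_lit 40) (nat_lit 5) [nat_lit 0, nat_lit 5, nat_lit 0]) (.leaf (nat_lit 41) (nat_lit 0) [nat_lit 5, nat_lit 0, nat_lit 5]))) (.node (nat_lit 46) (.node (nat_lit 45) (.leaf (nat_lit 41) (nat_lit 0) [nat_lit 5, nat_lit 0, nat_lit 5]) (.leaf (nat_lit 40) (nat_lit 5) [nat_lit 0, nat_lit 5, nat_lit 0])) (.node (nat_lit 47) (.leaf (nat_lit 41) (nat_lit 0) [nat_lit 5, nat_lit 0, nat_lit 5]) (.leaf (nat_lit 40) (nat_lit 5) [nat_lit 0, nat_lit 5, nat_lit 0])))) (.node (nat_lit 51) (.node (nat_lit 49) (.leaf (nat_lit 48) (nat_lit 6) [nat_lit 0, nat_lit 6, nat_lit 0]) (.node (nat_lit 50) (.leaf (nat_lit 49) (nat_lit 0) [nat_lit 6, nat_lit 0, nat_lit 6]) (.leaf (nat_lit 48) (nat_lit 6) [nat_lit 0, nat_lit 6, nat_lit 0]))) (.node (nat_lit 53) (.node (nat_lit 52) (.leaf (nat_lit 49) (nat_lit 0) [nat_lit 6, nat_lit 0, nat_lit 6]) (.leaf (nat_lit 49) (nat_lit 0) [nat_lit 6, nat_lit 0, nat_lit 6])) (.node (nat_lit 54) (.leaf (nat_lit 48) (nat_lit 6) [nat_lit 0, nat_lit 6, nat_lit 0]) (.leaf (nat_lit 49)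 (nat_lit 0) [nat_lit 6, nat_lit 0, nat_lit 6]))))))) (.node (nat_lit 82) (.node (nat_lit 68) (.node (nat_lit 61) (.node (nat_lit 58) (.node (nat_lit 56) (.leaf (nat_lit 48) (nat_lit 6) [nat_lit 0, nat_lit 6, nat_lit 0]) (.node (nat_lit 57) (.leaf (nat_lit 56) (nat_lit 1) [nat_lit 1]) (.leaf (nat_lit 56) (nat_lit 1) [nat_lit 1]))) (.node (nat_lit 59) (.leaf (nat_lit 56) (nat_lit 1) [nat_lit 1]) (.node (nat_lit 60) (.leaf (nat_lit 56) (nat_lit 1) [nat_lit 1]) (.leaf (nat_lit 60) (nat_lit 2) [nat_lit 1, nat_lit 2, nat_lit 1, nat_lit 2, nat_lit 1])))) (.node (nat_lit 64) (.node (nat_lit 62) (.leaf (nat_lit 61) (nat_lit 1) [nat_lit 2, nat_lit 1, nat_lit 2, nat_lit 1, nat_lit 2]) (.node (nat_lit 63) (.leaf (nat_lit 60) (nat_lit 2) [nat_lit 1, nat_lit 2, nat_lit 1, nat_lit 2, nat_lit 1]) (.leaf (nat_lit 61) (nat_lit 1) [nat_lit 2, nat_lit 1, nat_lit 2, nat_lit 1, nat_lit 2]))) (.node (nat_lit 66) (.node (nat_lit 65) (.leaf (nat_lit 60) (nat_lit 2) [nat_lit 1, nat_lit 2, nat_lit 1, nat_lit 2, nat_lit 1]) (.leaf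 (nat_lit 61) (nat_lit 1) [nat_lit 2, nat_lit 1, nat_lit 2, nat_lit 1, nat_lit 2])) (.node (nat_lit 67) (.leaf (nat_lit 61) (nat_lit 1) [nat_lit 2, nat_lit 1, nat_lit 2, nat_lit 1, nat_lit 2]) (.leaf (nat_lit 60) (nat_lit 2) [nat_lit 1, nat_lit 2, nat_lit 1, nat_lit 2, nat_lit 1]))))) (.node (nat_lit 75) (.node (nat_lit 71) (.node (nat_lit 69) (.leaf (nat_lit 61) (nat_lit 1) [nat_lit 2, nat_lit 1, nat_lit 2, nat_lit 1, nat_lit 2]) (.node (nat_lit 70) (.leaf (nat_lit 60) (nat_lit 2) [nat_lit 1, nat_lit 2, nat_lit 1, nat_lit 2, nat_lit 1]) (.leaf (nat_lit 61) (nat_lit 1) [nat_lit 2, nat_lit 1, nat_lit 2, nat_lit 1, nat_lit 2]))) (.node (nat_lit 73) (.node (nat_lit 72) (.leaf (nat_lit 60) (nat_lit 2) [nat_lit 1, nat_lit 2, nat_lit 1, nat_lit 2, nat_lit 1]) (.leaf (nat_lit 72) (nat_lit 3) [nat_lit 1, nat_lit 3, nat_lit 1])) (.node (nat_lit 74) (.leaf (nat_lit 73) (nat_lit 1) [nat_lit 3, nat_lit 1, nat_lit 3]) (.leaf (nat_lit 72) (nat_lit 3) [nat_lit 1, nat_lit 3, nat_lit 1])))) (.node (nat_lit 78) (.node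 (nat_lit 76) (.leaf (nat_lit 73) (nat_lit 1) [nat_lit 3, nat_lit 1, nat_lit 3]) (.node (nat_lit 77) (.leaf (nat_lit 73) (nat_lit 1) [nat_lit 3, nat_lit 1, nat_lit 3]) (.leaf (nat_lit 72) (nat_lit 3) [nat_lit 1, nat_lit 3, nat_lit 1]))) (.node (nat_lit 80) (.node (nat_lit 79) (.leaf (nat_lit 73) (nat_lit 1) [nat_lit 3, nat_lit 1, nat_lit 3]) (.leaf (nat_lit 72) (nat_lit 3) [nat_lit 1, nat_lit 3, nat_lit 1])) (.node (nat_lit 81) (.leaf (nat_lit 80) (nat_lit 4) [nat_lit 1, nat_lit 4, nat_lit 1]) (.leaf (nat_lit 81) (nat_lit 1) [nat_lit 4, nat_lit 1, nat_lit 4])))))) (.node (nat_lit 96) (.node (nat_lit 89) (.node (nat_lit 85) (.node (nat_lit 83) (.leaf (nat_lit 80) (nat_lit 4) [nat_lit 1, nat_lit 4, nat_lit 1]) (.node (nat_lit 84) (.leaf (nat_lit 81) (nat_lit 1) [nat_lit 4, nat_lit 1, nat_lit 4]) (.leaf (nat_lit 81) (nat_lit 1) [nat_lit 4, nat_lit 1, nat_lit 4]))) (.node (nat_lit 87) (.node (nat_lit 86) (.leaf (nat_lit 80) (nat_lit 4) [nat_lit 1, nat_lit 4, nat_lit 1]) (.leaf (nat_lit 81) (nat_lit 1) [nat_lit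 4, nat_lit 1, nat_lit 4])) (.node (nat_lit 88) (.leaf (nat_lit 80) (nat_lit 4) [nat_lit 1, nat_lit 4, nat_lit 1]) (.leaf (nat_lit 88) (nat_lit 5) [nat_lit 1, nat_lit 5, nat_lit 1])))) (.node (nat_lit 92) (.node (nat_lit 90) (.leaf (nat_lit 89) (nat_lit 1) [nat_lit 5, nat_lit 1, nat_lit 5]) (.node (nat_lit 91) (.leaf (nat_lit 88) (nat_lit 5) [nat_lit 1, nat_lit 5, nat_lit 1]) (.leaf (nat_lit 89) (nat_lit 1) [nat_lit 5, nat_lit 1, nat_lit 5]))) (.node (nat_lit 94) (.node (nat_lit 93) (.leaf (nat_lit 89) (nat_lit 1) [nat_lit 5, nat_lit 1, nat_lit 5]) (.leaf (nat_lit 88) (nat_lit 5) [nat_lit 1, nat_lit 5, nat_lit 1])) (.node (nat_lit 95) (.leaf (nat_lit 89) (nat_lit 1) [nat_lit 5, nat_lit 1, nat_lit 5]) (.leaf (nat_lit 88) (nat_lit 5) [nat_lit 1, nat_lit 5, nat_lit 1]))))) (.node (nat_lit 103) (.node (nat_lit 99) (.node (nat_lit 97) (.leaf (nat_lit 96) (nat_lit 6) [nat_lit 1, nat_lit 6, nat_lit 1]) (.node (nat_lit 98) (.leaf (nat_lit 97) (nat_lit 1) [nat_lit 6, nat_lit 1, nat_lit 6]) (.leaf (nat_lit 96)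 (nat_lit 6) [nat_lit 1, nat_lit 6, nat_lit 1]))) (.node (nat_lit 101) (.node (nat_lit 100) (.leaf (nat_lit 97) (nat_lit 1) [nat_lit 6, nat_lit 1, nat_lit 6]) (.leaf (nat_lit 97) (nat_lit 1) [nat_lit 6, nat_lit 1, nat_lit 6])) (.node (nat_lit 102) (.leaf (nat_lit 96) (nat_lit 6) [nat_lit 1, nat_lit 6, nat_lit 1]) (.leaf (nat_lit 97) (nat_lit 1) [nat_lit 6, nat_lit 1, nat_lit 6])))) (.node (nat_lit 106) (.node (nat_lit 104) (.leaf (nat_lit 96) (nat_lit 6) [nat_lit 1, nat_lit 6, nat_lit 1]) (.node (nat_lit 105) (.leaf (nat_lit 104) (nat_lit 2) [nat_lit 2]) (.leaf (nat_lit 104) (nat_lit 2) [nat_lit 2]))) (.node (nat_lit 108) (.node (nat_lit 107) (.leaf (nat_lit 104) (nat_lit 2) [nat_lit 2]) (.leaf (nat_lit 104) (nat_lit 2) [nat_lit 2])) (.node (nat_lit 109) (.leaf (nat_lit 108) (nat_lit 3) [nat_lit 2, nat_lit 3, nat_lit 2, nat_lit 3, nat_lit 2]) (.leaf (nat_lit 109) (nat_lit 2) [nat_lit 3, nat_lit 2, nat_lit 3, nat_lit 2, nat_lit 3])))))))) (.node (nat_lit 165) (.node (nat_lit 137) (.node (nat_lit 123)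 (.node (nat_lit 116) (.node (nat_lit 113) (.node (nat_lit 111) (.leaf (nat_lit 108) (nat_lit 3) [nat_lit 2, nat_lit 3, nat_lit 2, nat_lit 3, nat_lit 2]) (.node (nat_lit 112) (.leaf (nat_lit 109) (nat_lit 2) [nat_lit 3, nat_lit 2, nat_lit 3, nat_lit 2, nat_lit 3]) (.leaf (nat_lit 108) (nat_lit 3) [nat_lit 2, nat_lit 3, nat_lit 2, nat_lit 3, nat_lit 2]))) (.node (nat_lit 114) (.leaf (nat_lit 109) (nat_lit 2) [nat_lit 3, nat_lit 2, nat_lit 3, nat_lit 2, nat_lit 3]) (.node (nat_lit 115) (.leaf (nat_lit 109) (nat_lit 2) [nat_lit 3, nat_lit 2, nat_lit 3, nat_lit 2, nat_lit 3]) (.leaf (nat_lit 108) (nat_lit 3) [nat_lit 2, nat_lit 3, nat_lit 2, nat_lit 3, nat_lit 2])))) (.node (nat_lit 119) (.node (nat_lit 117) (.leaf (nat_lit 109) (nat_lit 2) [nat_lit 3, nat_lit 2, nat_lit 3, nat_lit 2, nat_lit 3]) (.node (nat_lit 118) (.leaf (nat_lit 108) (nat_lit 3) [nat_lit 2, nat_lit 3, nat_lit 2, nat_lit 3, nat_lit 2]) (.leaf (nat_lit 109) (nat_lit 2) [nat_lit 3, nat_lit 2, nat_lit 3, nat_lit 2, nat_lit 3]))) (.node (nat_lit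 121) (.node (nat_lit 120) (.leaf (nat_lit 108) (nat_lit 3) [nat_lit 2, nat_lit 3, nat_lit 2, nat_lit 3, nat_lit 2]) (.leaf (nat_lit 120) (nat_lit 4) [nat_lit 2, nat_lit 4, nat_lit 2])) (.node (nat_lit 122) (.leaf (nat_lit 121) (nat_lit 2) [nat_lit 4, nat_lit 2, nat_lit 4]) (.leaf (nat_lit 120) (nat_lit 4) [nat_lit 2, nat_lit 4, nat_lit 2]))))) (.node (nat_lit 130) (.node (nat_lit 126) (.node (nat_lit 124) (.leaf (nat_lit 121) (nat_lit 2) [nat_lit 4, nat_lit 2, nat_lit 4]) (.node (nat_lit 125) (.leaf (nat_lit 121) (nat_lit 2) [nat_lit 4, nat_lit 2, nat_lit 4]) (.leaf (nat_lit 120) (nat_lit 4) [nat_lit 2, nat_lit 4, nat_lit 2]))) (.node (nat_lit 128) (.node (nat_lit 127) (.leaf (nat_lit 121) (nat_lit 2) [nat_lit 4, nat_lit 2, nat_lit 4]) (.leaf (nat_lit 120) (nat_lit 4) [nat_lit 2, nat_lit 4, nat_lit 2])) (.node (nat_lit 129) (.leaf (nat_lit 128) (nat_lit 5) [nat_lit 2, nat_lit 5, nat_lit 2]) (.leaf (nat_lit 129) (nat_lit 2) [nat_lit 5, nat_lit 2, nat_lit 5])))) (.node (nat_lit 133) (.node (nat_lit 131)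 (.leaf (nat_lit 128) (nat_lit 5) [nat_lit 2, nat_lit 5, nat_lit 2]) (.node (nat_lit 132) (.leaf (nat_lit 129) (nat_lit 2) [nat_lit 5, nat_lit 2, nat_lit 5]) (.leaf (nat_lit 129) (nat_lit 2) [nat_lit 5, nat_lit 2, nat_lit 5]))) (.node (nat_lit 135) (.node (nat_lit 134) (.leaf (nat_lit 128) (nat_lit 5) [nat_lit 2, nat_lit 5, nat_lit 2]) (.leaf (nat_lit 129) (nat_lit 2) [nat_lit 5, nat_lit 2, nat_lit 5])) (.node (nat_lit 136) (.leaf (nat_lit 128) (nat_lit 5) [nat_lit 2, nat_lit 5, nat_lit 2]) (.leaf (nat_lit 136) (nat_lit 6) [nat_lit 2, nat_lit 6, nat_lit 2, nat_lit 6, nat_lit 2])))))) (.node (nat_lit 151) (.node (nat_lit 144) (.node (nat_lit 140) (.node (nat_lit 138) (.leaf (nat_lit 137) (nat_lit 2) [nat_lit 6, nat_lit 2, nat_lit 6, nat_lit 2, nat_lit 6]) (.node (nat_lit 139) (.leaf (nat_lit 136) (nat_lit 6) [nat_lit 2, nat_lit 6, nat_lit 2, nat_lit 6, nat_lit 2]) (.leaf (nat_lit 137) (nat_lit 2) [nat_lit 6, nat_lit 2, nat_lit 6, nat_lit 2, nat_lit 6]))) (.node (nat_lit 142) (.node (nat_lit 141) (.leaf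 (nat_lit 136) (nat_lit 6) [nat_lit 2, nat_lit 6, nat_lit 2, nat_lit 6, nat_lit 2]) (.leaf (nat_lit 137) (nat_lit 2) [nat_lit 6, nat_lit 2, nat_lit 6, nat_lit 2, nat_lit 6])) (.node (nat_lit 143) (.leaf (nat_lit 137) (nat_lit 2) [nat_lit 6, nat_lit 2, nat_lit 6, nat_lit 2, nat_lit 6]) (.leaf (nat_lit 136) (nat_lit 6) [nat_lit 2, nat_lit 6, nat_lit 2, nat_lit 6, nat_lit 2])))) (.node (nat_lit 147) (.node (nat_lit 145) (.leaf (nat_lit 137) (nat_lit 2) [nat_lit 6, nat_lit 2, nat_lit 6, nat_lit 2, nat_lit 6]) (.node (nat_lit 146) (.leaf (nat_lit 136) (nat_lit 6) [nat_lit 2, nat_lit 6, nat_lit 2, nat_lit 6, nat_lit 2]) (.leaf (nat_lit 137) (nat_lit 2) [nat_lit 6, nat_lit 2, nat_lit 6, nat_lit 2, nat_lit 6]))) (.node (nat_lit 149) (.node (nat_lit 148) (.leaf (nat_lit 136) (nat_lit 6) [nat_lit 2, nat_lit 6, nat_lit 2, nat_lit 6, nat_lit 2]) (.leaf (nat_lit 148) (nat_lit 3) [nat_lit 3])) (.node (nat_lit 150) (.leaf (nat_lit 148) (nat_lit 3) [nat_lit 3]) (.leaf (nat_lit 148) (nat_lit 3) [nat_lit 3]))))) (.node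 (nat_lit 158) (.node (nat_lit 154) (.node (nat_lit 152) (.leaf (nat_lit 148) (nat_lit 3) [nat_lit 3]) (.node (nat_lit 153) (.leaf (nat_lit 152) (nat_lit 4) [nat_lit 3, nat_lit 4, nat_lit 3, nat_lit 4, nat_lit 3]) (.leaf (nat_lit 153) (nat_lit 3) [nat_lit 4, nat_lit 3, nat_lit 4, nat_lit 3, nat_lit 4]))) (.node (nat_lit 156) (.node (nat_lit 155) (.leaf (nat_lit 152) (nat_lit 4) [nat_lit 3, nat_lit 4, nat_lit 3, nat_lit 4, nat_lit 3]) (.leaf (nat_lit 153) (nat_lit 3) [nat_lit 4, nat_lit 3, nat_lit 4, nat_lit 3, nat_lit 4])) (.node (nat_lit 157) (.leaf (nat_lit 152) (nat_lit 4) [nat_lit 3, nat_lit 4, nat_lit 3, nat_lit 4, nat_lit 3]) (.leaf (nat_lit 153) (nat_lit 3) [nat_lit 4, nat_lit 3, nat_lit 4, nat_lit 3, nat_lit 4])))) (.node (nat_lit 161) (.node (nat_lit 159) (.leaf (nat_lit 153) (nat_lit 3) [nat_lit 4, nat_lit 3, nat_lit 4, nat_lit 3, nat_lit 4]) (.node (nat_lit 160) (.leaf (nat_lit 152) (nat_lit 4) [nat_lit 3, nat_lit 4, nat_lit 3, nat_lit 4, nat_lit 3]) (.leaf (nat_lit 153) (nat_lit 3) [nat_lit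 4, nat_lit 3, nat_lit 4, nat_lit 3, nat_lit 4]))) (.node (nat_lit 163) (.node (nat_lit 162) (.leaf (nat_lit 152) (nat_lit 4) [nat_lit 3, nat_lit 4, nat_lit 3, nat_lit 4, nat_lit 3]) (.leaf (nat_lit 153) (nat_lit 3) [nat_lit 4, nat_lit 3, nat_lit 4, nat_lit 3, nat_lit 4])) (.node (nat_lit 164) (.leaf (nat_lit 152) (nat_lit 4) [nat_lit 3, nat_lit 4, nat_lit 3, nat_lit 4, nat_lit 3]) (.leaf (nat_lit 164) (nat_lit 5) [nat_lit 3, nat_lit 5, nat_lit 3]))))))) (.node (nat_lit 192) (.node (nat_lit 178) (.node (nat_lit 171) (.node (nat_lit 168) (.node (nat_lit 166) (.leaf (nat_lit 165) (nat_lit 3) [nat_lit 5, nat_lit 3, nat_lit 5]) (.node (nat_lit 167) (.leaf (nat_lit 164) (nat_lit 5) [nat_lit 3, nat_lit 5, nat_lit 3]) (.leaf (nat_lit 165) (nat_lit 3) [nat_lit 5, nat_lit 3, nat_lit 5]))) (.node (nat_lit 169) (.leaf (nat_lit 165) (nat_lit 3) [nat_lit 5, nat_lit 3, nat_lit 5]) (.node (nat_lit 170) (.leaf (nat_lit 164) (nat_lit 5) [nat_lit 3, nat_lit 5, nat_lit 3]) (.leaf (nat_lit 165) (nat_lit 3) [nat_lit 5, nat_lit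 3, nat_lit 5])))) (.node (nat_lit 174) (.node (nat_lit 172) (.leaf (nat_lit 164) (nat_lit 5) [nat_lit 3, nat_lit 5, nat_lit 3]) (.node (nat_lit 173) (.leaf (nat_lit 172) (nat_lit 6) [nat_lit 3, nat_lit 6, nat_lit 3]) (.leaf (nat_lit 173) (nat_lit 3) [nat_lit 6, nat_lit 3, nat_lit 6]))) (.node (nat_lit 176) (.node (nat_lit 175) (.leaf (nat_lit 172) (nat_lit 6) [nat_lit 3, nat_lit 6, nat_lit 3]) (.leaf (nat_lit 173) (nat_lit 3) [nat_lit 6, nat_lit 3, nat_lit 6])) (.node (nat_lit 177) (.leaf (nat_lit 173) (nat_lit 3) [nat_lit 6, nat_lit 3, nat_lit 6]) (.leaf (nat_lit 172) (nat_lit 6) [nat_lit 3, nat_lit 6, nat_lit 3]))))) (.node (nat_lit 185) (.node (nat_lit 181) (.node (nat_lit 179) (.leaf (nat_lit 173) (nat_lit 3) [nat_lit 6, nat_lit 3, nat_lit 6]) (.node (nat_lit 180) (.leaf (nat_lit 172) (nat_lit 6) [nat_lit 3, nat_lit 6, nat_lit 3]) (.leaf (nat_lit 180) (nat_lit 4) [nat_lit 4]))) (.node (nat_lit 183) (.node (nat_lit 182) (.leaf (nat_lit 180) (nat_lit 4) [nat_lit 4]) (.leaf (nat_lit 180) (nat_lit 4)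 [nat_lit 4])) (.node (nat_lit 184) (.leaf (nat_lit 180) (nat_lit 4) [nat_lit 4]) (.leaf (nat_lit 184) (nat_lit 5) [nat_lit 4, nat_lit 5, nat_lit 4, nat_lit 5, nat_lit 4])))) (.node (nat_lit 188) (.node (nat_lit 186) (.leaf (nat_lit 185) (nat_lit 4) [nat_lit 5, nat_lit 4, nat_lit 5, nat_lit 4, nat_lit 5]) (.node (nat_lit 187) (.leaf (nat_lit 184) (nat_lit 5) [nat_lit 4, nat_lit 5, nat_lit 4, nat_lit 5, nat_lit 4]) (.leaf (nat_lit 185) (nat_lit 4) [nat_lit 5, nat_lit 4, nat_lit 5, nat_lit 4, nat_lit 5]))) (.node (nat_lit 190) (.node (nat_lit 189) (.leaf (nat_lit 184) (nat_lit 5) [nat_lit 4, nat_lit 5, nat_lit 4, nat_lit 5, nat_lit 4]) (.leaf (nat_lit 185) (nat_lit 4) [nat_lit 5, nat_lit 4, nat_lit 5, nat_lit 4, nat_lit 5])) (.node (nat_lit 191) (.leaf (nat_lit 185) (nat_lit 4) [nat_lit 5, nat_lit 4, nat_lit 5, nat_lit 4, nat_lit 5]) (.leaf (nat_lit 184) (nat_lit 5) [nat_lit 4, nat_lit 5, nat_lit 4, nat_lit 5, nat_lit 4])))))) (.node (nat_lit 206) (.node (nat_lit 199) (.node (nat_lit 195) (.node (nat_lit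 193) (.leaf (nat_lit 185) (nat_lit 4) [nat_lit 5, nat_lit 4, nat_lit 5, nat_lit 4, nat_lit 5]) (.node (nat_lit 194) (.leaf (nat_lit 184) (nat_lit 5) [nat_lit 4, nat_lit 5, nat_lit 4, nat_lit 5, nat_lit 4]) (.leaf (nat_lit 185) (nat_lit 4) [nat_lit 5, nat_lit 4, nat_lit 5, nat_lit 4, nat_lit 5]))) (.node (nat_lit 197) (.node (nat_lit 196) (.leaf (nat_lit 184) (nat_lit 5) [nat_lit 4, nat_lit 5, nat_lit 4, nat_lit 5, nat_lit 4]) (.leaf (nat_lit 196) (nat_lit 6) [nat_lit 4, nat_lit 6, nat_lit 4])) (.node (nat_lit 198) (.leaf (nat_lit 197) (nat_lit 4) [nat_lit 6, nat_lit 4, nat_lit 6]) (.leaf (nat_lit 196) (nat_lit 6) [nat_lit 4, nat_lit 6, nat_lit 4])))) (.node (nat_lit 202) (.node (nat_lit 200) (.leaf (nat_lit 197) (nat_lit 4) [nat_lit 6, nat_lit 4, nat_lit 6]) (.node (nat_lit 201) (.leaf (nat_lit 197) (nat_lit 4) [nat_lit 6, nat_lit 4, nat_lit 6]) (.leaf (nat_lit 196) (nat_lit 6) [nat_lit 4, nat_lit 6, nat_lit 4]))) (.node (nat_lit 204) (.node (nat_lit 203) (.leaf (nat_lit 197) (nat_lit 4) [nat_lit 6,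 nat_lit 4, nat_lit 6]) (.leaf (nat_lit 196) (nat_lit 6) [nat_lit 4, nat_lit 6, nat_lit 4])) (.node (nat_lit 205) (.leaf (nat_lit 204) (nat_lit 5) [nat_lit 5]) (.leaf (nat_lit 204) (nat_lit 5) [nat_lit 5]))))) (.node (nat_lit 213) (.node (nat_lit 209) (.node (nat_lit 207) (.leaf (nat_lit 204) (nat_lit 5) [nat_lit 5]) (.node (nat_lit 208) (.leaf (nat_lit 204) (nat_lit 5) [nat_lit 5]) (.leaf (nat_lit 208) (nat_lit 6) [nat_lit 5, nat_lit 6, nat_lit 5]))) (.node (nat_lit 211) (.node (nat_lit 210) (.leaf (nat_lit 209) (nat_lit 5) [nat_lit 6, nat_lit 5, nat_lit 6]) (.leaf (nat_lit 208) (nat_lit 6) [nat_lit 5, nat_lit 6, nat_lit 5])) (.node (nat_lit 212) (.leaf (nat_lit 209) (nat_lit 5) [nat_lit 6, nat_lit 5, nat_lit 6]) (.leaf (nat_lit 209) (nat_lit 5) [nat_lit 6, nat_lit 5, nat_lit 6])))) (.node (nat_lit 216) (.node (nat_lit 214) (.leaf (nat_lit 208) (nat_lit 6) [nat_lit 5, nat_lit 6, nat_lit 5]) (.node (nat_lit 215) (.leaf (nat_lit 209) (nat_lit 5) [nat_lit 6, nat_lit 5, nat_lit 6]) (.leaf (nat_lit 208)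 (nat_lit 6) [nat_lit 5, nat_lit 6, nat_lit 5]))) (.node (nat_lit 218) (.node (nat_lit 217) (.leaf (nat_lit 216) (nat_lit 6) [nat_lit 6]) (.leaf (nat_lit 216) (nat_lit 6) [nat_lit 6])) (.node (nat_lit 219) (.leaf (nat_lit 216) (nat_lit 6) [nat_lit 6]) (.leaf (nat_lit 216) (nat_lit 6) [nat_lit 6]))))))))
/-- the relators -/
def relsL : List (List ℕ) := [[nat_lit 0, nat_lit 0],
  [nat_lit 1, nat_lit 0, nat_lit 1, nat_lit 0, nat_lit 1, nat_lit 0],
  [nat_lit 2, nat_lit 0, nat_lit 2, nat_lit 0],
  [nat_lit 3, nat_lit 0, nat_lit 3, nat_lit 0],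
  [nat_lit 4, nat_lit 0, nat_lit 4, nat_lit 0],
  [nat_lit 5, nat_lit 0, nat_lit 5, nat_lit 0],
  [nat_lit 6, nat_lit 0, nat_lit 6, nat_lit 0],
  [nat_lit 1, nat_lit 1],
  [nat_lit 2, nat_lit 1, nat_lit 2, nat_lit 1, nat_lit 2, nat_lit 1],
  [nat_lit 3, nat_lit 1, nat_lit 3, nat_lit 1],
  [nat_lit 4, nat_lit 1, nat_lit 4, nat_lit 1],
  [nat_lit 5, nat_lit 1, nat_lit 5, nat_lit 1],
  [nat_lit 6, nat_lit 1, nat_lit 6, nat_lit 1],
  [nat_lit 2, nat_lit 2],
  [nat_lit 3, nat_lit 2, nat_lit 3, nat_lit 2, nat_lit 3, nat_lit 2],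
  [nat_lit 4, nat_lit 2, nat_lit 4, nat_lit 2],
  [nat_lit 5, nat_lit 2, nat_lit 5, nat_lit 2],
  [nat_lit 6, nat_lit 2, nat_lit 6, nat_lit 2, nat_lit 6, nat_lit 2],
  [nat_lit 3, nat_lit 3],
  [nat_lit 4, nat_lit 3, nat_lit 4, nat_lit 3, nat_lit 4, nat_lit 3],
  [nat_lit 5, nat_lit 3, nat_lit 5, nat_lit 3],
  [nat_lit 6, nat_lit 3, nat_lit 6, nat_lit 3],
  [nat_lit 4, nat_lit 4],
  [nat_lit 5, nat_lit 4, nat_lit 5, nat_lit 4, nat_lit 5, nat_lit 4],
  [nat_lit 6, nat_lit 4, nat_lit 6, nat_lit 4],
  [nat_lit 5, nat_lit 5],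
  [nat_lit 6, nat_lit 5, nat_lit 6, nat_lit 5],
  [nat_lit 6, nat_lit 6]]
/-- the subgroup words -/
def hwL : List (List ℕ) := [[nat_lit 0],
  [nat_lit 1],
  [nat_lit 2],
  [nat_lit 3],
  [nat_lit 4],
  [nat_lit 6]]

/-- the certificate -/
noncomputable def cfg : Cfg :=
  mkCfg (fun k => TT.fld tE (nat_lit 92) (nat_lit 1023) (nat_lit 4951760157141521099596496895) k)
    (nat_lit 448) (nat_lit 56) (nat_lit 56) (nat_lit 7) (nat_lit 8)
    (fun x => x)
    (fun k => TT.fld tP (nat_lit 32) (nat_lit 1023) (nat_lit 4294967295) k)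
    (fun k => TT.fld tQ (nat_lit 32) (nat_lit 1023) (nat_lit 4294967295) k)
    rT hwL

/-- the orbit certificate -/
noncomputable def oc : OCert where
  oid := fun j => Nat.land (TT.fld tO (nat_lit 64) (nat_lit 1023) (nat_lit 18446744073709551615) j) (nat_lit 65535)
  prnt := fun j => Nat.land (Nat.shiftRight (TT.fld tO (nat_lit 64) (nat_lit 1023) (nat_lit 18446744073709551615) j) (nat_lit 16)) (nat_lit 16777215)
  pw := fun j => Nat.land (Nat.shiftRight (TT.fld tO (nat_lit 64) (nat_lit 1023) (nat_lit 18446744073709551615) j) (nat_lit 40)) (nat_lit 255)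
  rk := fun j => Nat.shiftRight (TT.fld tO (nat_lit 64) (nat_lit 1023) (nat_lit 18446744073709551615) j) (nat_lit 48)
  rep := fun d => List.getD [] d 0

/-- the relators -/
def rsL : List (FreeGroup (Fin 7)) := Cfsg.Agent.Lib.Fischer.M23.Mult.Words.relsCox Cfsg.Agent.Lib.Fischer.M23.Mult.Words.lE7

/-- the group side of the certificate -/
def D : Data (Fin 7) where
  lets := [(0,true),(1,true),(2,true),(3,true),(4,true),(5,true),(6,true)]
  rs := rsL
  Hs := [(FreeGroup.of (0 : Fin 7)), (FreeGroup.of (1 : Fin 7)), (FreeGroup.of (2 : Fin 7)), (FreeGroup.of (3 : Fin 7)), (FreeGroup.of (4 : Fin 7)), (FreeGroup.of (6 : Fin 7))]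
  rels := relsL
  hw := hwL

end Cfsg.Agent.Lib.Compute.TC.MWE7
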